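import Mathlib
import Cfsg.Agent.TECH.GC.WrA
import Cfsg.Agent.FGS.ClassCount
import Cfsg.Agent.INV.FusInv
import Cfsg.Agent.INV.ElemAbGL
import Cfsg.Agent.SOLV.Primitive

/-!
A Sylow `2`-subgroup of type `M₂₂`: fusion of involutions and the orders of the `2`-local subgroups.
-/

set_option autoImplicit false
set_option linter.unusedSectionVars false
open Cfsg Subgroup CL.MSS CL.AB
open scoped commutatorElement

namespace CL.GC

variable {G : Type*} [Group G] [Finite G]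

theorem orb_card {α : Type*} (H K : Subgroup G) (f : G → α)
    (hf : ∀ a b, f a = f b ↔ a⁻¹ * b ∈ K) :
    (f '' H).ncard * Nat.card (H ⊓ K : Subgroup G) = Nat.card H := by
  have := ncard_range_eq_index (K.subgroupOf H) (fun a : H => f a) fun a b => hf a b
  rw [← card_mul_relIndex_of_le (inf_le_left : H ⊓ K ≤ H), inf_relIndex_left, relIndex, ← this,
    mul_comm, Set.image_eq_range]
  rfl

/-- the class of `v` under `H` -/
def oe (H : Subgroup G) (v : G) : Set G := (fun g => g * v * g⁻¹) '' H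

/-- the conjugates of `X` under `H` -/
def os (H X : Subgroup G) : Set (Subgroup G) := (fun g => g •ᶜ X) '' H

theorem oe_card (H : Subgroup G) (v : G) :
    (oe H v).ncard * Nat.card (H ⊓ centralizer {v} : Subgroup G) = Nat.card H :=
  orb_card H _ _ fun a b => by
    rw [mem_centralizer_singleton_iff_conj, eq_comm, ← (conj_injective (x := a⁻¹)).eq_iff]
    simp [mul_assoc]

theorem os_card (H X : Subgroup G) :
    (os H X).ncard * Nat.card (H ⊓ normalizer (X : Set G) : Subgroup G) = Nat.card H :=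
  orb_card H _ _ fun a b => by rw [mem_normalizer_iff_cj, cj_mul, cj_eq_iff, eq_comm]

theorem ncard_sdiff {X Y : Subgroup G} (h : Y ≤ X) :
    ((X : Set G) \ Y).ncard = Nat.card X - Nat.card Y := Set.ncard_sdiff h

theorem fix_mod {p : ℕ} [Fact p.Prime] {E : Subgroup G} {y : G} (hy : y ^ p = 1)
    (h : y ∈ normalizer (E : Set G)) :
    Nat.card E ≡ Nat.card (E ⊓ centralizer {y} : Subgroup G) [MOD p] :=
  centralizer_zpowers y ▸ Prim.card_modEq_card_inf_centralizer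
    (isPGroup_zpowers (k := 1) (by rwa [pow_one])) (zpowers_le.2 h)

theorem cos4 {K H : Subgroup G} (hK : IsElementaryAbelian 2 K) (HK : H ≤ K)
    (hc : Nat.card K ≤ 4 * Nat.card H) {a b x : G} (ha : a ∈ K) (hb : b ∈ K) (hx : x ∈ K)
    (h1 : a ∉ H) (h2 : b ∉ H) (h3 : b * a ∉ H) :
    x ∈ H ∨ x * a ∈ H ∨ x * b ∈ H ∨ x * b * a ∈ H := by
  have aU : a ∈ zpowers a ⊔ H := mem_sup_left (mem_zpowers a)
  have m : ∀ y ∈ zpowers a ⊔ H, y ∈ H ∨ y * a ∈ H := fun y hy => or_iff_not_imp_left.2 fun c =>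
    mul_mem_of_card le_sup_right (Blk2.card_sup_zpowers hK HK ha) hy aU c h1
  have := Blk2.two_mul_card_le (le_sup_right : H ≤ zpowers a ⊔ H) fun c => h1 (c aU)
  by_cases c : x ∈ zpowers a ⊔ H
  · exact (m x c).imp_right .inl
  · exact .inr (.inr (m _ (mul_mem_of_card (sup_le (zpowers_le.2 ha) HK) (by omega) hx hb c
      fun e => (m b e).elim h2 h3)))

theorem three {K H : Subgroup G} (hK : IsElementaryAbelian 2 K) (HK : H ≤ K)
    (hc : Nat.card K ≤ 4 * Nat.card H) {h : G} (nK : h ∈ normalizer (K : Set G))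
    (nH : h ∈ normalizer (H : Set G)) (hf : ∀ a ∈ K, h * a * h⁻¹ * a ∈ H → a ∈ H) {a b : G}
    (ha : a ∈ K) (hb : b ∈ K) (h1 : a ∉ H) (h2 : b ∉ H) :
    ∃ n ∈ zpowers h, n * a * n⁻¹ * b ∈ H := by
  have a1 := (mem_normalizer_iff.1 nK a).1 ha
  have a2 := (mem_normalizer_iff.1 nK _).1 a1
  have b1 := mt (mem_normalizer_iff.1 nH a).2 h1
  have b2 := mt (mem_normalizer_iff.1 nH _).2 b1
  have c1 := mt (hf a ha) h1
  have c2 := mt (hf _ (mul_mem a1 ha)) c1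
  rw [← conj_mul, mul_assoc _ (h * a * h⁻¹), ← mul_assoc (h * a * h⁻¹), ea_sq hK a1, one_mul] at c2
  have e := (((cos4 hK HK hc ha a1 a2 h1 b1 c1).resolve_left b2).resolve_left c2).resolve_left
    (mt (hf _ a1) b1)
  rcases (cos4 hK HK hc ha a1 hb h1 b1 c1).resolve_left h2 with e1 | e1 | e1
  · exact ⟨1, one_mem _, by rwa [one_mul, inv_one, mul_one, ea_comm hK ha hb]⟩
  · exact ⟨h, mem_zpowers h, by rwa [ea_comm hK a1 hb]⟩
  · refine ⟨h * h, mul_mem (mem_zpowers h) (mem_zpowers h), ?_⟩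
    have := mul_mem e (inv_mem e1)
    rw [← mul_one (_ * _⁻¹), ← ea_sq hK hb] at this
    convert this using 1
    group

namespace K4

variable {T J Z A V : Subgroup G} {z : G} (k : K4 T J Z A V z)
include k

theorem JZ : normalizer (J : Set G) ≤ normalizer (Z : Set G) :=
  k.inf ▸ le_normalizer_inf k.NJ k.symm.NJ

theorem ZnA : normalizer (Z : Set G) ≤ normalizer (A : Set G) := k.nZ.trans k.NJ

theorem cV_eq {a : G} (ha : a ∈ A) (hZ : a ∉ Z) : V ⊓ centralizer {a} = Z :=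
  le_antisymm (fun _ hv => k.memZ.2 ⟨k.memA ha hZ (k.pair.leB hv.1)
    (mem_centralizer_singleton_iff.1 hv.2).symm, hv.1⟩) (le_inf k.ZV fun _ hc =>
      mem_centralizer_singleton_iff.2 (k.cZJ hc (k.pair.leA ha)).eq)

theorem trAZ {h : G} (hh : h ∈ normalizer (J : Set G))
    (hf : ∀ a ∈ A, h * a * h⁻¹ * a ∈ Z → a ∈ Z) {a b : G} (ha : a ∈ A) (hb : b ∈ A) (h1 : a ∉ Z)
    (h2 : b ∉ Z) : ∃ n ∈ normalizer (Z : Set G), n * a * n⁻¹ = b := by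
  obtain ⟨n, hn, e⟩ := three k.pair.eA k.ZA (by rw [k.cA, k.cZ]) (k.NJ hh) (k.JZ hh) hf ha hb h1 h2
  obtain ⟨v, hv, e'⟩ := k.onto hb h2 (inv_mem e)
  refine ⟨v⁻¹ * n, mul_mem (inv_mem (k.nZ' (k.symm.AT hv))) (zpowers_le.2 (k.JZ hh) hn), ?_⟩
  rw [← inv_inj, commutatorElement_inv, inv_inv, commutatorElement_def,
    inv_eq_of_mul_eq_one_right (k.sqA hb), mul_left_inj] at e'
  rw [mul_inv_rev, mul_assoc v⁻¹, mul_assoc, ← mul_assoc (n * a), ← e']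
  group

theorem cenZ {c : G} (hc : c ∈ Z) (h1 : c ≠ 1) (h2 : c ≠ z) :
    centralizer {z} ⊓ centralizer {c} = centralizer (Z : Set G) :=
  le_antisymm (fun g hg d hd => by
    have e1 := mem_centralizer_singleton_iff.1 hg.1
    have e2 := mem_centralizer_singleton_iff.1 hg.2
    rcases k.four hc h1 h2 hd with rfl | rfl | rfl | rfl
    exacts [by simp, e1.symm, e2.symm, by rw [← mul_assoc, e2, mul_assoc, ← e1, mul_assoc]])
    (le_inf (centralizer_le (Set.singleton_subset_iff.2 k.zZ))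
      (centralizer_le (Set.singleton_subset_iff.2 hc)))

theorem cardJ : Nat.card J = 64 := by
  have := card_sup_mul_card_inf_of_le_normalizer k.pair.A_le_normalizer
  rw [k.pair.sup, k.inf, k.cA, k.cV, k.cZ] at this
  omega

theorem cardT : Nat.card T = 128 := by
  have h1 := card_le_two_mul k.idx
  have h2 := Blk2.two_mul_card_le k.JT k.nle
  rw [inf_eq_right.2 k.JT] at h1
  have := k.cardJ
  omega

theorem card_zp : Nat.card (zpowers z) = 2 := by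
  rw [Nat.card_zpowers, orderOf_eq_prime (by rw [sq, k.sqA (k.ZA k.zZ)]) k.z1]

theorem cV_cj {a g v : G} (ha : a ∈ A) (hZ : a ∉ Z) (hg : g ∈ normalizer (V : Set G)) (hv : v ∈ V) :
    V ⊓ centralizer {g * a * g⁻¹ * v} = g •ᶜ Z := by
  rw [← k.cV_eq ha hZ, cj_inf, cj_centralizer_singleton, cj_eq_of_mem_normalizer hg]
  refine ext fun w => and_congr_right fun hw => ?_
  change w ∈ centralizer _ ↔ w ∈ centralizer _
  rw [mem_centralizer_singleton_iff, mem_centralizer_singleton_iff, ← mul_assoc, mul_assoc _ v,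
    ← ea_comm k.pair.eB hw hv, ← mul_assoc _ w, mul_left_inj]

theorem ty_of {a s : G} (ha : a ∈ A) (hZ : a ∉ Z) (hs : s * s = 1) (h : s * a⁻¹ ∈ V) :
    s ∈ A ∧ s ∉ Z := by
  have e : s * a⁻¹ ∈ Z := (k.cV_eq ha hZ).le ⟨h, mem_centralizer_singleton_iff.2 (by
    have := inv_eq_of_mul_eq_one_right (k.symm.sqA h)
    rw [mul_inv_rev, inv_inv, inv_eq_of_mul_eq_one_right hs] at this
    rw [inv_mul_cancel_right, ← this, ← mul_assoc, k.sqA ha, one_mul])⟩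
  exact ⟨(mul_mem_cancel_right (inv_mem ha)).1 (k.ZA e),
    fun c => hZ (inv_mem_iff.1 ((mul_mem_cancel_left c).1 e))⟩

theorem notJ {a g : G} (ha : a ∈ A) (hZ : a ∉ Z) (hg : g ∈ normalizer (V : Set G))
    (h : g * a * g⁻¹ ∈ J) : g ∈ normalizer (Z : Set G) := by
  have h1 : g * a * g⁻¹ ∉ V := fun c => hZ (k.memZ.2 ⟨ha, (mem_normalizer_iff.1 hg a).2 c⟩)
  have h2 := (k.pair.inv _ h (by rw [conj_mul, k.sqA ha, mul_one, mul_inv_cancel])).resolve_right h1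
  rw [mem_normalizer_iff_cj, ← k.cV_cj ha hZ hg (one_mem _), mul_one,
    k.cV_eq h2 fun c => h1 (k.ZV c)]

theorem exU {t : G} (ht : t ∈ T) (hJ : t ∉ J) : ∃ a ∈ A, ⁅t, a⁆ ∉ Z := by
  by_contra! n
  exact k.nleU fun a ha => k.memU ht hJ (k.pair.leA ha) (n a ha)

theorem mulU {a b : G} (ha : a ∈ A) (hb : b ∈ A) (h1 : a ∈ secC T Z) (h2 : b ∈ secC T Z)
    (h3 : a ∉ Z) (h4 : b ∉ Z) : a * b ∈ Z :=
  mul_mem_of_card (le_inf k.ZA k.ZU) (by have := k.cardU; rw [k.cZ]; omega) ⟨ha, h1⟩ ⟨hb, h2⟩ h3 h4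

theorem exC {t : G} (ht : t ∈ T) (hJ : t ∉ J) (h : t * t = 1) : ∃ a ∈ A, ⁅a, t⁆ ∈ A ∧
    ⁅a, t⁆ ∉ Z ∧ ⁅a, t⁆ ∈ secC T Z ∧ Commute ⁅a, t⁆ t := by
  obtain ⟨a, ha, h1⟩ := k.exU ht hJ
  have h2 : ⁅t, a⁆ ∈ A := mul_mem (conj_mem_of_normalizes k.nA ht ha) (inv_mem ha)
  rw [← commutatorElement_inv] at h1 h2
  have h3 : ⁅a, t⁆ * t = t * ⁅a, t⁆ :=
    calc ⁅a, t⁆ * t = t * t * (a * t * a⁻¹) := by rw [h, commutatorElement_def]; group
      _ = t * ⁅a, t⁆⁻¹ * (a * (t * t) * a⁻¹) := by rw [commutatorElement_def]; group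
      _ = _ := by rw [h, inv_eq_of_mul_eq_one_right (k.sqA (inv_mem_iff.1 h2))]; group
  exact ⟨a, ha, inv_mem_iff.1 h2, mt inv_mem h1, k.memU ht hJ (k.pair.leA (inv_mem_iff.1 h2)) (by
    rw [commutatorElement_eq_one_iff_mul_comm.2 h3.symm]; exact one_mem _), h3⟩

end K4

/-- the additional data coming from the block on `A` and the parabolic subgroup -/
structure K5 (T J Z A V : Subgroup G) (z : G) : Prop extends K4 T J Z A V z where
  trA : ∀ a ∈ A, a ≠ 1 → ∃ l ∈ normalizer (A : Set G), l * z * l⁻¹ = a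
  CM : centralizer {z} ≤ normalizer (V : Set G)
  cenV : centralizer (V : Set G) ≤ V
  car : ∃ h ∈ normalizer (J : Set G), (∀ a ∈ A, h * a * h⁻¹ * a ∈ Z → a ∈ Z) ∧
    (∀ v ∈ V, h * v * h⁻¹ * v ∈ Z → v ∈ Z) ∧ ∀ c ∈ Z, h * c * h⁻¹ * c = 1 → c = 1
  par : ∃ P R : Subgroup G, T ≤ P ∧ P ≤ centralizer {z} ∧ R ≤ T ∧ P ≤ normalizer (R : Set G) ∧
    ¬ R ≤ J ∧ ¬ P ≤ normalizer (Z : Set G)

namespace K5

variable {T J Z A V : Subgroup G} {z : G} (k : K5 T J Z A V z)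
include k

local notation "𝐌" => normalizer (V : Set G)
local notation "𝐂" => centralizer (singleton z : Set G)
local notation "𝐍" => normalizer (Z : Set G)

theorem NM : 𝐍 ≤ 𝐌 := k.symm.ZnA

theorem trZ {c : G} (hc : c ∈ Z) (h1 : c ≠ 1) : ∃ n ∈ 𝐍, n * z * n⁻¹ = c := by
  obtain ⟨h, hh, -, -, h2⟩ := k.car
  obtain ⟨n, hn, e⟩ := three (ea_mono k.pair.eA k.ZA) bot_le (by rw [k.cZ, card_bot]) (k.JZ hh)
    (mem_normalizer_iff_cj.2 (cj_bot h)) h2 k.zZ hc k.z1 h1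
  exact ⟨n, zpowers_le.2 (k.JZ hh) hn, (eq_inv_of_mul_eq_one_left e).trans
    (inv_eq_of_mul_eq_one_right (k.sqA (k.ZA hc)))⟩

theorem trA' {a b : G} (ha : a ∈ A) (hb : b ∈ A) (h1 : a ∉ Z) (h2 : b ∉ Z) :
    ∃ n ∈ 𝐍, n * a * n⁻¹ = b :=
  let ⟨_, hh, h, _⟩ := k.car
  k.trAZ hh h ha hb h1 h2

theorem par' : ∃ a ∈ A, a ∉ Z ∧ a ∈ secC T Z ∧ ∃ P K : Subgroup G, T ≤ P ∧ P ≤ 𝐂 ∧ ¬ P ≤ 𝐍 ∧
    V ≤ K ∧ K ≤ T ∧ Nat.card K ≤ 64 ∧ ∀ g ∈ P, g * a * g⁻¹ ∈ K := by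
  obtain ⟨P, R, h1, h2, h3, h4, h5, h6⟩ := k.par
  obtain ⟨r, hr, rJ⟩ := SetLike.not_le_iff_exists.1 h5
  obtain ⟨a, ha, h7⟩ := k.exU (h3 hr) rJ
  obtain ⟨u, hu, h8, h9⟩ := Blk2.exists_fixed_mod (V := R ⊓ A) (D := Z)
    ((ea_pgroup k.pair.eA).to_le inf_le_right) k.syl.pgroup (le_normalizer_inf (h1.trans h4) k.nA)
    fun c => h7 (c ⟨by
      rw [commutatorElement_def, mul_assoc, mul_assoc, ← mul_assoc a]
      exact mul_mem hr (conj_mem_of_normalizes h4 (h1 (k.AT ha)) (inv_mem hr)),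
      A.mul_mem (conj_mem_of_normalizes k.nA (h3 hr) ha) (A.inv_mem ha)⟩)
  have l := sup_le h3 k.symm.AT
  refine ⟨u, hu.2, h8, ⟨k.nZ' (h3 hu.1), fun t ht => by
    rw [← commutatorElement_inv]; exact inv_mem (h9 t ht)⟩, P, R ⊔ V, h1, h2, h6, le_sup_right, l, ?_,
    fun g hg => mem_sup_left (conj_mem_of_normalizes h4 hg hu.1)⟩
  have := Blk2.two_mul_card_le l fun c => h6 (k.inf ▸ le_normalizer_inf ((le_antisymm l c ▸
    le_normalizer_sup h4 (h2.trans k.CM) : P ≤ normalizer (T : Set G)).trans k.NT) (h2.trans k.CM))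
  rw [k.cardT] at this
  omega

theorem key : ∃ a ∈ A, a ∉ Z ∧ ∃ g ∈ 𝐂, g ∉ 𝐍 ∧ g * a * g⁻¹ ∈ T ∧ g * a * g⁻¹ ∉ J ∧
    Commute a (g * a * g⁻¹) := by
  obtain ⟨a, ha, h1, h2, P, K, -, h4, h5, -, h7, -, h9⟩ := k.par'
  obtain ⟨g, hg, h6⟩ := SetLike.not_le_iff_exists.1 h5
  have t1 := h7 (h9 g hg)
  have t2 := mt (k.notJ ha h1 (k.CM (h4 hg))) h6
  obtain ⟨b, -, b1, b2, b3, b4⟩ := k.exC t1 t2 (by rw [conj_mul, k.sqA ha, mul_one, mul_inv_cancel])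
  obtain ⟨v, hv, e⟩ := k.onto ha h1 (k.mulU ha b1 h2 b3 h1 b2)
  rw [commutatorElement_def, mul_assoc, mul_assoc, mul_right_inj, ← mul_assoc,
    inv_eq_of_mul_eq_one_right (k.sqA ha)] at e
  have e' : g * v⁻¹ * ⁅b, g * a * g⁻¹⁆ * (g * v⁻¹)⁻¹ = g * a * g⁻¹ := by rw [← e]; group
  exact ⟨_, b1, b2, g * v⁻¹, mul_mem (h4 hg) (inv_mem (k.Tz (k.symm.AT hv))),
    mt (mul_mem_cancel_right (inv_mem (k.nZ' (k.symm.AT hv)))).1 h6, e'.symm ▸ t1, e'.symm ▸ t2,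
    e'.symm ▸ b4⟩

theorem trV {v : G} (hv : v ∈ V) (h1 : v ≠ 1) : ∃ m ∈ 𝐌, m * z * m⁻¹ = v := by
  by_cases c : v ∈ Z
  · exact (k.trZ c h1).imp fun n hn => ⟨k.NM hn.1, hn.2⟩
  obtain ⟨-, -, -, g, hg, h2, -⟩ := k.key
  obtain ⟨d, hd, h3⟩ : ∃ d ∈ Z, g * d * g⁻¹ ∉ Z := by
    by_contra! n
    exact h2 (mem_normalizer_of_cj_le (cj_le_iff_forall.2 n))
  obtain ⟨h, hh, -, h4, -⟩ := k.car
  obtain ⟨n, hn, rfl⟩ := k.symm.trAZ hh h4 (conj_mem_of_normalizes k.CM hg (k.ZV hd)) hv h3 c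
  obtain ⟨m, hm, rfl⟩ := k.trZ hd fun e => h3 (by simp [e])
  exact ⟨n * g * m, mul_mem (mul_mem (k.NM hn) (k.CM hg)) (k.NM hm), by group⟩

theorem ti {v g : G} (hv : v ∈ V) (h1 : v ≠ 1) (h : g * v * g⁻¹ ∈ V) : g ∈ 𝐌 := by
  obtain ⟨m, hm, e⟩ := k.trV h (mt conj_eq_one_iff.1 h1)
  obtain ⟨n, hn, rfl⟩ := k.trV hv h1
  have : m⁻¹ * g * n ∈ 𝐌 := k.CM (mem_centralizer_singleton_iff_conj.2 (by
    rw [← (conj_injective (x := m)).eq_iff, e]; group))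
  rwa [mul_mem_cancel_right hn, mul_mem_cancel_left (inv_mem hm)] at this

theorem inv1 {s : G} (hs : s ∈ 𝐌) (hV : s ∉ V) (h : s * s = 1) :
    ∃ m ∈ 𝐌, m * s * m⁻¹ ∈ A ∧ m * s * m⁻¹ ∉ Z := by
  obtain ⟨m, hm, e⟩ := (k.syl.of_le k.nV le_top).exists_conj_le (pg_inv h) (zpowers_le.2 hs)
  have s1 := cj_le_iff_forall.1 e s (mem_zpowers s)
  have s2 := mt (mem_normalizer_iff.1 hm s).2 hV
  have s3 : m * s * m⁻¹ * (m * s * m⁻¹) = 1 := by rw [conj_mul, h, mul_one, mul_inv_cancel]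
  suffices ∃ n ∈ 𝐌, n * (m * s * m⁻¹) * n⁻¹ ∈ A ∧ n * (m * s * m⁻¹) * n⁻¹ ∉ Z from
    let ⟨n, hn, e⟩ := this
    ⟨n * m, mul_mem hn hm, by simpa only [mul_inv_rev, mul_assoc] using e⟩
  generalize m * s * m⁻¹ = u at *
  by_cases c : u ∈ J
  · exact ⟨1, one_mem _, by simpa using ⟨(k.pair.inv _ c s3).resolve_right s2, mt (k.ZV ·) s2⟩⟩
  obtain ⟨a, ha, aZ, g, hg, -, t1, t2, -⟩ := k.key
  have fin : ∀ n ∈ 𝐌, u * (n * a * n⁻¹)⁻¹ ∈ V →
      ∃ n ∈ 𝐌, n * u * n⁻¹ ∈ A ∧ n * u * n⁻¹ ∉ Z := fun n hn e =>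
    ⟨n⁻¹, inv_mem hn, k.ty_of ha aZ (by rw [conj_mul, s3, mul_one, mul_inv_cancel]) (by
      convert conj_mem_of_normalizes le_rfl (inv_mem hn) e using 1; group)⟩
  have t3 : g * a * g⁻¹ * (g * a * g⁻¹) = 1 := by rw [conj_mul, k.sqA ha, mul_one, mul_inv_cancel]
  obtain ⟨b, hb, b1, b2, b3, -⟩ := k.exC t1 t2 t3
  have f1 := fin g (k.CM hg)
  have f2 := fin (b * g) (mul_mem (k.nV (k.AT hb)) (k.CM hg))
  rw [show b * g * a * (b * g)⁻¹ = ⁅b, g * a * g⁻¹⁆ * (g * a * g⁻¹) by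
    rw [commutatorElement_def]; group] at f2
  generalize g * a * g⁻¹ = t at *
  obtain ⟨x, hx, v, hv, e⟩ := k.pair.exists_mul (k.idx u s1 _ (inv_mem t1) c (mt inv_mem_iff.1 t2))
  obtain rfl := eq_mul_of_mul_inv_eq e.symm
  by_cases d : x ∈ Z
  · exact f1 (e ▸ mul_mem (k.ZV d) hv)
  have x1 := conj_mem_of_normalizes k.nA t1 hx
  have x2 : t * x * t⁻¹ * x⁻¹ ∈ Z := k.memZ.2 ⟨mul_mem x1 (inv_mem hx), by
    have := inv_mem (mul_mem (conj_mem_of_normalizes' k.nV (k.AT x1) hv)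
      (conj_mem_of_normalizes k.nV t1 hv))
    rw [inv_eq_of_mul_eq_one_right (k.sqA hx), ea_comm k.pair.eA x1 hx]
    convert this using 1
    rw [eq_inv_iff_mul_eq_one, ← s3, ← mul_one (_ * (_ * _)), ← t3]
    group⟩
  have x3 := k.mulU hx (inv_mem b1) (k.memU t1 t2 (k.pair.leA hx) x2) (inv_mem b3) d
    (mt inv_mem_iff.1 b2)
  refine f2 ?_
  convert mul_mem (k.ZV x3) (conj_mem_of_normalizes k.nV (k.AT b1) hv) using 1
  group

theorem one {s : G} (h : s * s = 1) (h1 : s ≠ 1) : ∃ g : G, g * z * g⁻¹ = s := by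
  obtain ⟨m, -, e⟩ := k.syl.exists_conj_le (pg_inv h) le_top
  have s1 := cj_le_iff_forall.1 e s (mem_zpowers s)
  by_cases c : m * s * m⁻¹ ∈ V
  · obtain ⟨n, -, e⟩ := k.trV c (mt conj_eq_one_iff.1 h1)
    exact ⟨m⁻¹ * n, by rw [← (conj_injective (x := m)).eq_iff, ← e]; group⟩
  obtain ⟨n, -, e1, e2⟩ := k.inv1 (k.nV s1) c (by rw [conj_mul, h, mul_one, mul_inv_cancel])
  obtain ⟨l, -, e⟩ := k.trA _ e1 fun c => e2 (c ▸ one_mem _)
  exact ⟨(n * m)⁻¹ * l, by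
    rw [← (conj_injective (x := m)).eq_iff, ← (conj_injective (x := n)).eq_iff, ← e]; group⟩

theorem card_M : Nat.card 𝐌 = 15 * Nat.card 𝐂 := by
  have := oe_card 𝐌 z
  rw [inf_eq_right.2 k.CM, show oe 𝐌 z = (V : Set G) \ (⊥ : Subgroup G) from Set.ext fun v =>
    ⟨fun ⟨m, hm, e⟩ => e ▸ ⟨conj_mem_of_normalizes le_rfl hm (k.ZV k.zZ),
      mt conj_eq_one_iff.1 k.z1⟩, fun h => k.trV h.1 h.2⟩, ncard_sdiff bot_le, k.cV, card_bot] at this
  exact this.symm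

theorem card_N : Nat.card 𝐍 = 3 * Nat.card (𝐂 ⊓ 𝐍 : Subgroup G) := by
  have := oe_card 𝐍 z
  rw [inf_comm, show oe 𝐍 z = (Z : Set G) \ (⊥ : Subgroup G) from Set.ext fun v =>
    ⟨fun ⟨m, hm, e⟩ => e ▸ ⟨conj_mem_of_normalizes le_rfl hm k.zZ,
      mt conj_eq_one_iff.1 k.z1⟩, fun h => k.trZ h.1 h.2⟩, ncard_sdiff bot_le, k.cZ, card_bot] at this
  exact this.symm

theorem card_a {a : G} (ha : a ∈ A) (hZ : a ∉ Z) :
    Nat.card 𝐍 = 12 * Nat.card (𝐌 ⊓ centralizer {a} : Subgroup G) := by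
  have := oe_card 𝐍 a
  rw [show oe 𝐍 a = (A : Set G) \ Z from Set.ext fun v =>
    ⟨fun ⟨m, hm, e⟩ => e ▸ ⟨conj_mem_of_normalizes k.ZnA hm ha,
      mt (mem_normalizer_iff.1 hm a).2 hZ⟩, fun h => k.trA' ha h.1 hZ h.2⟩, ncard_sdiff k.ZA, k.cA,
    k.cZ] at this
  rw [← this, le_antisymm (inf_le_inf_right _ k.NM) (le_inf (k.cV_eq ha hZ ▸ le_normalizer_inf
    inf_le_left (inf_le_right.trans le_normalizer)) inf_le_right)]

theorem syl_card {X : Subgroup G} (h : T ≤ X) : ∃ m, ¬ 2 ∣ m ∧ Nat.card X = 128 * m :=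
  ⟨_, (k.syl.of_le h le_top).not_dvd_relIndex, by rw [← k.cardT, card_mul_relIndex_of_le h]⟩

omit k in
theorem oe_le {X H : Subgroup G} (h1 : H ≤ 𝐂) (h2 : H ≤ normalizer (X : Set G)) {c : G}
    (hc : c ∈ X) (h3 : c ∉ zpowers z) : oe H c ⊆ (X : Set G) \ zpowers z := fun _ ⟨_, hg, e⟩ =>
  e ▸ ⟨conj_mem_of_normalizes h2 hg hc, mt (mem_normalizer_iff.1 (centralizer_le_normalizer _
    ((centralizer_zpowers z).ge (h1 hg))) c).2 h3⟩

theorem M_dvd : Nat.card 𝐌 ∣ 16 * 20160 := by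
  obtain ⟨f, hf⟩ := EAGL.exists_hom_gl (V := V) (p := 2) (n := 4)
    (fun x y => Subtype.ext (ea_comm k.pair.eB x.2 y.2))
    (fun x => Subtype.ext (by rw [sq]; exact k.symm.sqA x.2)) k.cV.le
  have h := (FusInv.relIndex_dvd_card_mulAut V).trans (card_dvd_of_injective f hf)
  rw [Matrix.card_GL_field, le_antisymm k.cenV (ea_le_centralizer k.pair.eB)] at h
  rw [← card_mul_relIndex_of_le (le_normalizer : V ≤ _), k.cV]
  exact Nat.mul_dvd_mul_left 16 (by simpa [Fin.prod_univ_four] using h)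

theorem not7 : ¬ 7 ∣ Nat.card (centralizer (Z : Set G)) := fun h => by
  have : Fact (Nat.Prime 7) := ⟨by norm_num⟩
  obtain ⟨y, hy⟩ := exists_prime_orderOf_dvd_card' 7 h
  rw [← orderOf_coe] at hy
  have h1 := fix_mod (p := 7) (hy ▸ pow_orderOf_eq_one _) (k.NM (centralizer_le_normalizer _ y.2))
  have h2 := card_le_of_le (le_inf k.ZV fun c hc =>
    mem_centralizer_singleton_iff.2 (y.2 c hc) : Z ≤ V ⊓ centralizer {(y : G)})
  have h3 := card_dvd_of_le (inf_le_left : V ⊓ centralizer {(y : G)} ≤ V)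
  have h4 := card_le_of_le (inf_le_left : V ⊓ centralizer {(y : G)} ≤ V)
  have h5 : V ⊓ centralizer {(y : G)} = V := eq_of_le_of_card_ge inf_le_left (by
    rw [k.cV, k.cZ] at *
    generalize Nat.card (V ⊓ centralizer {(y : G)} : Subgroup G) = n at *
    interval_cases n <;> simp_all [Nat.ModEq])
  have := orderOf_dvd_of_pow_eq_one ((sq _).trans (k.symm.sqA (k.cenV fun v hv =>
    mem_centralizer_singleton_iff.1 (h5.ge hv).2)))
  exact absurd (hy ▸ this) (by norm_num)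

theorem exZ' : ∃ c ∈ Z, c ∉ zpowers z ∧ 𝐂 ⊓ centralizer {c} = centralizer (Z : Set G) :=
  let ⟨c, hc, c1, c2⟩ := k.exZ
  ⟨c, hc, fun e => (WrO.eq_of_mem_zpowers (k.sqA (k.ZA k.zZ)) e).elim c1 c2, k.cenZ hc c1 c2⟩

theorem nums : ∃ δ, (δ = 1 ∨ δ = 3) ∧ Nat.card (centralizer (Z : Set G)) = 64 * δ ∧
    Nat.card (𝐂 ⊓ 𝐍 : Subgroup G) = 128 * δ ∧ Nat.card 𝐂 = 128 * δ * (2 * δ + 1) := by
  obtain ⟨c, hc, c1, c2⟩ := k.exZ'
  obtain ⟨δ, o1, e1⟩ := k.syl_card (le_inf k.Tz k.nZ')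
  obtain ⟨m, o2, e2⟩ := k.syl_card k.Tz
  have e3 := oe_card (𝐂 ⊓ 𝐍) c
  have e4 := oe_card 𝐂 c
  have e5 := card_inf_mul_relIndex 𝐍 𝐂
  have l1 := (Set.ncard_le_ncard (oe_le (inf_le_left : 𝐂 ⊓ 𝐍 ≤ _) inf_le_right hc c1)).trans_eq
    (ncard_sdiff k.zp_le)
  have l2 := (Set.ncard_le_ncard (oe_le le_rfl k.CM (k.ZV hc) c1)).trans_eq
    (ncard_sdiff (k.zp_le.trans k.ZV))
  have n1 : Nat.card (centralizer (Z : Set G)) ≠ 128 * δ := fun e => k.nle fun t ht => k.cz t ht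
    ((eq_of_le_of_card_ge (le_inf (c2.ge.trans inf_le_left) (centralizer_le_normalizer _))
      (e1.trans e.symm).le).ge ⟨k.Tz ht, k.nZ' ht⟩)
  have n7 := k.not7
  have d := k.M_dvd
  obtain ⟨a, ha, aZ, -, P, K, p1, p2, p3, p4, -, p5, p6⟩ := k.par'
  have q1 := Blk2.card_le_mul_relIndex (C := 𝐍) (M := V) _ p6 fun x hx y hy e => by
    rw [mem_normalizer_iff_cj, cj_mul, cj_eq_iff, inv_inv,
      ← k.cV_cj ha aZ (k.CM (p2 hx)) e, ← k.cV_cj ha aZ (k.CM (p2 hy)) (one_mem _),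
      mul_inv_cancel_left, mul_one]
  have q2 := card_mul_relIndex_of_le p4
  have q3 := card_le_of_le (inf_le_inf_right 𝐍 p2)
  have q4 := card_dvd_of_le p2
  have q5 : Nat.card P ≠ 128 := fun e =>
    p3 ((eq_of_le_of_card_ge p1 (e.trans k.cardT.symm).le).ge.trans k.nZ')
  have q6 : (𝐍).relIndex 𝐂 ≠ 1 := fun e => p3 (p2.trans (relIndex_eq_one.1 e))
  obtain ⟨u, -, q7⟩ := k.syl_card p1
  rw [inf_right_comm, c2, inf_eq_left.2 (centralizer_le_normalizer _), e1] at e3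
  rw [k.card_M, e2] at d
  rw [inf_comm, e1, e2] at e5
  rw [c2, e2] at e4
  rw [k.cZ, k.card_zp] at l1
  rw [k.cV, k.card_zp] at l2
  rw [k.cV] at q2
  rw [e2, q7] at q4
  rw [e1] at q3
  rw [q7] at q1 q5
  rw [e1, e2]
  generalize Nat.card (centralizer (Z : Set G)) = N at *
  generalize (oe (𝐂 ⊓ 𝐍) c).ncard = r at *
  generalize (oe 𝐂 c).ncard = s at *
  generalize (𝐍).relIndex 𝐂 = n at *
  obtain rfl : N = 64 * δ := by interval_cases r <;> omega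
  obtain rfl : m = δ * n := by rw [mul_assoc] at e5; omega
  have p0 : 0 < δ := by omega
  obtain rfl : s = 2 * n := Nat.eq_of_mul_eq_mul_right (Nat.mul_pos (by norm_num : 0 < 64) p0)
    (by rw [e4]; ring)
  have d' : δ * n ∣ 21 := (((Nat.coprime_two_left.2 (Nat.not_even_iff_odd.1
    (mt even_iff_two_dvd.1 o2))).pow_left 3).symm).dvd_of_dvd_mul_left
      (Nat.dvd_of_mul_dvd_mul_left (by norm_num : 0 < 15 * 128) (by rwa [← mul_assoc] at d))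
  have hn : n = 3 ∨ n = 5 ∨ n = 7 := by
    have : ¬ 2 ∣ n := fun c => o2 (c.mul_left _)
    omega
  have hd := Nat.le_of_dvd (by norm_num) d'
  have q9 := q1.trans (Nat.mul_le_mul q3 (by omega : V.relIndex K ≤ 4))
  have q10 := Nat.dvd_of_mul_dvd_mul_left (by norm_num) q4
  have : δ ≤ 7 := by rcases hn with rfl | rfl | rfl <;> omega
  have : (δ = 1 ∧ n = 3) ∨ (δ = 3 ∧ n = 7) := by
    rcases hn with rfl | rfl | rfl <;> interval_cases δ <;> first | omega | skip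
    have : u ≤ 4 := by omega
    interval_cases u <;> omega
  exact ⟨δ, by omega, rfl, rfl, by rcases this with ⟨rfl, rfl⟩ | ⟨rfl, rfl⟩ <;> rfl⟩

end K5

end CL.GC
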